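import Mathlib
import Cfsg.Prelude.Def_TwoFusion

/-!
A Sylow 2-subgroup `Q × R` with `Q` generalised quaternion and all involutions of `R` central in `R`
gives an involution which is the only one of its conjugates in the Sylow subgroup.
-/

set_option autoImplicit false

namespace Cfsg.Agent.QuatDirect

open Subgroup

/-- The properties of `z` in a generalised quaternion group that are used. -/
structure IsQData (Q : Type*) [Group Q] (z : Q) : Prop where
  sq : z * z = 1
  ne : z ≠ 1
  uniq : ∀ q : Q, q * q = 1 → q = 1 ∨ q = z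
  cent : ∀ q : Q, (∀ x : Q, x * q = q * x) → q = 1 ∨ q = z
  comm : ∃ a b : Q, a * b * a⁻¹ * b⁻¹ = z
  central : ∀ x : Q, x * z = z * x
  two : IsPGroup 2 Q

theorem isQData_quaternion (n : ℕ) (hn : 1 ≤ n) :
    IsQData (QuaternionGroup (2 ^ n)) (QuaternionGroup.a (2 ^ n : ℕ)) := by
  obtain ⟨j, hj⟩ : ∃ j, 2 ^ n = 2 * j := ⟨2 ^ (n - 1), by rw [← pow_succ', show n - 1 + 1 = n by omega]⟩
  set m := 2 ^ n with hm
  have : NeZero m := ⟨by positivity⟩
  have hm2 : 2 ≤ m := Nat.le_self_pow (by omega) 2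
  have hzero : ∀ i : ZMod (2 * m), i + i = 0 → i = 0 ∨ i = (m : ZMod (2 * m)) := by
    intro i h
    have h' : ((i.val + i.val : ℕ) : ZMod (2 * m)) = 0 := by
      push_cast [ZMod.natCast_zmod_val]; exact h
    rw [ZMod.natCast_eq_zero_iff] at h'
    obtain ⟨k, hk⟩ := h'
    have := i.val_lt
    have hk2 : k < 2 := by nlinarith
    interval_cases k
    · left; rw [← ZMod.natCast_zmod_val i, show i.val = 0 by omega, Nat.cast_zero]
    · right; rw [← ZMod.natCast_zmod_val i, show i.val = m by omega]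
  have hne : ((m : ℕ) : ZMod (2 * m)) ≠ 0 := by
    rw [ne_eq, ZMod.natCast_eq_zero_iff]
    intro h
    have := Nat.le_of_dvd (by omega) h
    omega
  have hsum : ((m : ℕ) : ZMod (2 * m)) + (m : ℕ) = 0 := by
    rw [← Nat.cast_add, ← two_mul, ZMod.natCast_self]
  refine ⟨?_, ?_, ?_, ?_, ?_, ?_, ?_⟩
  · rw [QuaternionGroup.a_mul_a, hsum, QuaternionGroup.a_zero]
  · intro h
    rw [QuaternionGroup.one_def, QuaternionGroup.a.injEq] at h
    exact hne h
  · rintro (i | i) h
    · rw [QuaternionGroup.a_mul_a, QuaternionGroup.one_def, QuaternionGroup.a.injEq] at h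
      rcases hzero i h with rfl | rfl
      · exact Or.inl QuaternionGroup.a_zero
      · exact Or.inr rfl
    · rw [QuaternionGroup.xa_mul_xa, QuaternionGroup.one_def, QuaternionGroup.a.injEq,
        add_sub_cancel_right] at h
      exact absurd h hne
  · rintro (i | i) h
    · have h1 := h (QuaternionGroup.xa 0)
      rw [QuaternionGroup.xa_mul_a, QuaternionGroup.a_mul_xa, zero_add, zero_sub,
        QuaternionGroup.xa.injEq, eq_neg_iff_add_eq_zero] at h1
      rcases hzero i h1 with rfl | rfl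
      · exact Or.inl QuaternionGroup.a_zero
      · exact Or.inr rfl
    · have h1 := h (QuaternionGroup.a 1)
      rw [QuaternionGroup.xa_mul_a, QuaternionGroup.a_mul_xa, QuaternionGroup.xa.injEq] at h1
      exfalso
      have h2 : ((2 : ℕ) : ZMod (2 * m)) = 0 := by push_cast; linear_combination -h1
      rw [ZMod.natCast_eq_zero_iff] at h2
      have := Nat.le_of_dvd two_pos h2
      omega
  · refine ⟨QuaternionGroup.a (j : ZMod (2 * m)), QuaternionGroup.xa 0, ?_⟩
    rw [mul_inv_eq_iff_eq_mul, mul_inv_eq_iff_eq_mul, QuaternionGroup.a_mul_xa,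
      QuaternionGroup.a_mul_xa, QuaternionGroup.xa_mul_a, QuaternionGroup.xa.injEq]
    rw [hj]
    push_cast
    ring
  · rintro (i | i)
    · rw [QuaternionGroup.a_mul_a, QuaternionGroup.a_mul_a, add_comm]
    · rw [QuaternionGroup.xa_mul_a, QuaternionGroup.a_mul_xa, QuaternionGroup.xa.injEq]
      linear_combination hsum
  · refine IsPGroup.of_card (n := n + 2) ?_
    rw [Nat.card_eq_fintype_card, QuaternionGroup.card, hm, pow_add]
    ring

variable {Q R : Type*} [Group Q] [Finite Q] [Group R] [Finite R] {z : Q}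

theorem mem_of_ne_bot (hQ : IsQData Q z) {K : Subgroup Q} (hK : K ≠ ⊥) : z ∈ K := by
  have : Fact (Nat.Prime 2) := ⟨Nat.prime_two⟩
  have hnt : Nontrivial K := (nontrivial_iff_ne_bot K).2 hK
  obtain ⟨k, hk⟩ := IsPGroup.iff_card.1 (hQ.two.to_subgroup K)
  have hk0 : k ≠ 0 := by
    rintro rfl
    have := Finite.one_lt_card (α := K)
    omega
  obtain ⟨x, hx⟩ := exists_prime_orderOf_dvd_card' (G := K) 2 (hk ▸ dvd_pow_self 2 hk0)
  rw [← Subgroup.orderOf_coe] at hx
  have h1 : (x : Q) * x = 1 := by rw [← sq, ← hx, pow_orderOf_eq_one]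
  rcases hQ.uniq _ h1 with h | h
  · rw [h, orderOf_one] at hx; omega
  · exact h ▸ x.2

theorem fixed_of_component (hQ : IsQData Q z)
    (φ : Q × R ≃* Q × R) (h : (φ (z, 1)).1 ≠ 1) : φ (z, 1) = (z, 1) := by
  classical
  set f := φ.toMonoidHom.comp (MonoidHom.inl Q R) with hf
  set g := φ.toMonoidHom.comp (MonoidHom.inr Q R) with hg
  set σ := (MonoidHom.fst Q R).comp f with hσ
  set ρ := (MonoidHom.snd Q R).comp f with hρ
  set ε := (MonoidHom.fst Q R).comp g with hε
  set ψ := (MonoidHom.snd Q R).comp g with hψ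
  have hσz : σ z ≠ 1 := h
  have hσinj : Function.Injective σ := by
    rw [← MonoidHom.ker_eq_bot_iff]
    by_contra hne
    exact hσz (MonoidHom.mem_ker.1 (mem_of_ne_bot hQ hne))
  have hσsurj : Function.Surjective σ := Finite.injective_iff_surjective.1 hσinj
  have hcommFG : ∀ q r, f q * g r = g r * f q := fun q r => by
    simp only [hf, hg, MonoidHom.comp_apply, ← map_mul, MonoidHom.inl_apply, MonoidHom.inr_apply,
      Prod.mk_mul_mk, one_mul, mul_one]
  have hεc : ∀ r, ε r = 1 ∨ ε r = z := fun r => hQ.cent _ fun x => by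
    obtain ⟨q, rfl⟩ := hσsurj x
    exact congrArg Prod.fst (hcommFG q r)
  have hψρ : ∀ q r, ρ q * ψ r = ψ r * ρ q := fun q r => congrArg Prod.snd (hcommFG q r)
  have hgen : ∀ t : R, ∃ q r, ρ q * ψ r = t := fun t => by
    obtain ⟨⟨q, r⟩, hqr⟩ := φ.surjective (1, t)
    refine ⟨q, r, ?_⟩
    have h1 : φ (q, r) = f q * g r := by
      simp only [hf, hg, MonoidHom.comp_apply, ← map_mul, MonoidHom.inl_apply,
        MonoidHom.inr_apply, Prod.mk_mul_mk, one_mul, mul_one]
      rfl
    rw [hqr] at h1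
    exact (congrArg Prod.snd h1).symm
  have hρab : ∀ a b : Q, ρ a * ρ b = ρ b * ρ a := by
    by_cases hsurj : Function.Surjective ψ
    · intro a b
      obtain ⟨r, hr⟩ := hsurj (ρ b)
      rw [← hr, hψρ]
    -- `ψ` has a kernel of order 2, so its range has index 2
    have hkle : Nat.card ψ.ker ≤ 2 := by
      have hinj : Function.Injective fun r : ψ.ker => decide (ε r = 1) := by
        intro r s hrs
        simp only [decide_eq_decide] at hrs
        have he : ε (r : R) = ε (s : R) := by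
          rcases hεc r with h1 | h1 <;> rcases hεc s with h2 | h2 <;> simp_all [hQ.ne]
        have : g (r : R) = g (s : R) :=
          Prod.ext he ((MonoidHom.mem_ker.1 r.2).trans (MonoidHom.mem_ker.1 s.2).symm)
        exact Subtype.ext (Prod.mk.inj (φ.injective this)).2
      exact (Nat.card_le_card_of_injective _ hinj).trans
        (by rw [Nat.card_eq_fintype_card, Fintype.card_bool])
    have hidx : ψ.range.index = 2 := by
      have h1 := ψ.range.card_mul_index
      have h2 := ψ.ker.card_mul_index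
      rw [Subgroup.index_ker] at h2
      have h3 : ψ.range.index ≠ 1 := fun hc =>
        hsurj (MonoidHom.range_eq_top.1 (Subgroup.index_eq_one.1 hc))
      have h4 : ψ.range.index = Nat.card ψ.ker := by
        apply Nat.eq_of_mul_eq_mul_left (Nat.card_pos (α := ψ.range))
        rw [h1, ← h2, mul_comm]
      have h5 := ψ.range.index_ne_zero_of_finite
      omega
    intro a b
    by_cases ha : ρ a ∈ ψ.range
    · obtain ⟨r, hr⟩ := ha
      rw [← hr, hψρ]
    by_cases hb : ρ b ∈ ψ.range
    · obtain ⟨r, hr⟩ := hb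
      rw [← hr, hψρ]
    obtain ⟨r, hr⟩ : (ρ a)⁻¹ * ρ b ∈ ψ.range := by
      rw [Subgroup.mul_mem_iff_of_index_two hidx, inv_mem_iff]
      simp [ha, hb]
    have hb' : ρ b = ρ a * ψ r := by rw [hr, mul_inv_cancel_left]
    rw [hb', ← mul_assoc, mul_assoc (ρ a) (ψ r) (ρ a), ← hψρ a r, ← mul_assoc]
  have hρz : ρ z = 1 := by
    obtain ⟨a, b, hab⟩ := hQ.comm
    rw [← hab, map_mul, map_mul, map_mul, map_inv, map_inv, hρab a b, mul_inv_cancel_right,
      mul_inv_cancel]
  have hσz' : σ z = z := (hQ.uniq (σ z) (by rw [← map_mul, hQ.sq, map_one])).resolve_left hσz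
  exact Prod.ext hσz' hρz

theorem central_of_sq (hQ : IsQData Q z)
    (hR : ∀ r : R, r * r = 1 → ∀ s : R, r * s = s * r) (w : Q × R) (hw : w * w = 1) :
    w ∈ center (Q × R) := by
  rw [mem_center_iff]
  intro v
  refine Prod.ext ?_ (hR w.2 (congrArg Prod.snd hw) v.2).symm
  rcases hQ.uniq w.1 (congrArg Prod.fst hw) with h | h
  · simp [h]
  · simpa [h] using hQ.central v.1

open scoped IsMulCommutative in
theorem exists_fixed (hQ : IsQData Q z)
    (hR : ∀ r : R, r * r = 1 → ∀ s : R, r * s = s * r) (A : Subgroup (MulAut (Q × R))) :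
    ∃ w : Q × R, w * w = 1 ∧ w ≠ 1 ∧ ∀ φ ∈ A, φ w = w := by
  classical
  let := Fintype.ofFinite (center (Q × R))
  have hz2 : ((z, 1) : Q × R) * (z, 1) = 1 := Prod.ext hQ.sq (one_mul 1)
  set O : Finset (center (Q × R)) :=
    Finset.univ.filter fun c => ∃ φ ∈ A, φ (z, 1) = (c : Q × R) with hO
  have hOmem : ∀ c, c ∈ O ↔ ∃ φ ∈ A, φ (z, 1) = (c : Q × R) := fun c => by simp [hO]
  set w : center (Q × R) := ∏ c ∈ O, c with hw
  let π : center (Q × R) →* Q := (MonoidHom.fst Q R).comp (center (Q × R)).subtype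
  refine ⟨w, ?_, ?_, ?_⟩
  · have : w * w = 1 := by
      rw [hw, ← Finset.prod_mul_distrib]
      refine Finset.prod_eq_one fun c hc => ?_
      obtain ⟨φ, -, hφ⟩ := (hOmem c).1 hc
      apply Subtype.ext
      rw [Subgroup.coe_mul, ← hφ, ← map_mul, hz2, map_one, Subgroup.coe_one]
    exact congrArg Subtype.val this
  · have hzc : ((z, 1) : Q × R) ∈ center (Q × R) := central_of_sq hQ hR _ hz2
    have hzO : (⟨(z, 1), hzc⟩ : center (Q × R)) ∈ O := (hOmem _).2 ⟨1, one_mem _, rfl⟩
    have hw1 : (w : Q × R).1 = z := by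
      have hπw : π w = (w : Q × R).1 := rfl
      let π' : center (Q × R) →* center Q :=
        π.codRestrict (center Q) fun c => mem_center_iff.2 fun x =>
          congrArg Prod.fst (mem_center_iff.1 c.2 (x, 1))
      have h1 : π' w = π' ⟨(z, 1), hzc⟩ := by
        rw [hw, map_prod]
        refine Finset.prod_eq_single_of_mem _ hzO fun c hc hne => ?_
        obtain ⟨φ, -, hφ⟩ := (hOmem c).1 hc
        apply Subtype.ext
        by_contra h
        apply hne
        apply Subtype.ext
        have h' : (φ (z, 1)).1 ≠ 1 := by rw [hφ]; exact h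
        rw [← hφ, fixed_of_component hQ φ h']
      exact congrArg Subtype.val h1
    intro h
    rw [h] at hw1
    exact hQ.ne hw1.symm
  · intro φ hφ
    let φc : center (Q × R) →* center (Q × R) :=
      (φ.toMonoidHom.comp (center (Q × R)).subtype).codRestrict (center (Q × R)) fun c => by
        rw [mem_center_iff]
        intro x
        obtain ⟨y, rfl⟩ := φ.surjective x
        simp only [MonoidHom.comp_apply, MulEquiv.coe_toMonoidHom, Subgroup.coe_subtype, ← map_mul,
          mem_center_iff.1 c.2 y]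
    have hinj : Function.Injective φc := fun a b h =>
      Subtype.ext (φ.injective (congrArg Subtype.val h))
    have himg : O.image φc = O := by
      refine Finset.eq_of_subset_of_card_le (fun c hc => ?_) (by
        rw [Finset.card_image_of_injective _ hinj])
      obtain ⟨d, hd, rfl⟩ := Finset.mem_image.1 hc
      obtain ⟨ψ, hψ, hψd⟩ := (hOmem d).1 hd
      exact (hOmem _).2 ⟨φ * ψ, mul_mem hφ hψ, by rw [MulAut.mul_apply, hψd]; rfl⟩
    have : φc w = w := by
      rw [hw, map_prod]
      conv_rhs => rw [← himg, Finset.prod_image fun a _ b _ h => hinj h]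
    exact congrArg Subtype.val this

/-- The involution given by the structure of the Sylow subgroup. -/
theorem exists_isolated {G : Type*} [Group G] [Finite G] (S : Sylow 2 G) (Q R : Subgroup G)
    (hQR : Cfsg.IsInternalDirectProduct Q R (S : Subgroup G)) (n : ℕ) (hn : 1 ≤ n)
    (eQ : ↥Q ≃* QuaternionGroup (2 ^ n))
    (hR : ∀ r ∈ R, orderOf r = 2 → ∀ s ∈ R, r * s = s * r) :
    ∃ u : G, orderOf u = 2 ∧ u ∈ S ∧ ∀ g : G, g * u * g⁻¹ ∈ S → g * u * g⁻¹ = u := by
  have : Fact (Nat.Prime 2) := ⟨Nat.prime_two⟩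
  obtain ⟨hQS, hRS, hcom, hinf, hsup⟩ := hQR
  have hd := isQData_quaternion n hn
  have hc : ∀ q r, Commute ((Q.subtype.comp eQ.symm.toMonoidHom) q) (R.subtype r) := fun q r =>
    hcom _ (SetLike.coe_mem (eQ.symm q)) _ (SetLike.coe_mem r)
  set ι : QuaternionGroup (2 ^ n) × R →* G :=
    (Q.subtype.comp eQ.symm.toMonoidHom).noncommCoprod R.subtype hc with hι
  have hιS : ι.range = (S : Subgroup G) := by
    rw [hι, MonoidHom.noncommCoprod_range, MonoidHom.range_comp,
      MonoidHom.range_eq_top.2 eQ.symm.surjective, ← MonoidHom.range_eq_map, range_subtype,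
      range_subtype, hsup]
  have hιinj : Function.Injective ι := by
    rw [hι, MonoidHom.noncommCoprod_injective]
    refine ⟨Q.subtype_injective.comp eQ.symm.injective, R.subtype_injective, ?_⟩
    rw [MonoidHom.range_comp, MonoidHom.range_eq_top.2 eQ.symm.surjective,
      ← MonoidHom.range_eq_map, range_subtype, range_subtype]
    exact disjoint_iff.2 hinf
  have hR' : ∀ r : R, r * r = 1 → ∀ s : R, r * s = s * r := by
    intro r hr s
    obtain h | h := eq_or_ne r 1
    · simp [h]
    · exact Subtype.ext (hR r r.2 (orderOf_eq_prime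
        (by rw [sq]; exact congrArg Subtype.val hr) (fun hc => h (Subtype.ext hc))) s s.2)
  let e : (QuaternionGroup (2 ^ n) × R) ≃* (S : Subgroup G) :=
    (MonoidHom.ofInjective hιinj).trans (MulEquiv.subgroupCongr hιS)
  have he : ∀ x, (e x : G) = ι x := fun x => rfl
  set N := normalizer ((S : Subgroup G) : Set G)
  let act : N →* MulAut (QuaternionGroup (2 ^ n) × R) :=
    (MulAut.congr e.symm).toMonoidHom.comp (S : Subgroup G).normalizerMonoidHom
  obtain ⟨w, hw2, hw1, hwfix⟩ := exists_fixed hd hR' act.range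
  refine ⟨ι w, ?_, hιS.le ⟨w, rfl⟩, fun g hg => ?_⟩
  · exact orderOf_eq_prime (by rw [sq, ← map_mul, hw2, map_one]) fun h => hw1 (hιinj (by rw [h, map_one]))
  have hcen : ∀ x, x * x = 1 → ι x ∈ centralizer ((S : Subgroup G) : Set G) := fun x hx => by
    rw [mem_centralizer_iff]
    intro s hs
    obtain ⟨y, rfl⟩ := hιS.ge hs
    rw [← map_mul, ← map_mul, mem_center_iff.1 (central_of_sq hd hR' x hx) y]
  obtain ⟨v, hv⟩ := hιS.ge hg
  have hv2 : v * v = 1 := hιinj (by
    rw [map_mul, hv, map_one, show g * ι w * g⁻¹ * (g * ι w * g⁻¹) = g * (ι w * ι w) * g⁻¹ by group,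
      ← map_mul, hw2, map_one, mul_one, mul_inv_cancel])
  obtain ⟨k, hk, hke⟩ := S.conj_eq_normalizer_conj_of_mem_centralizer (ι w) g⁻¹ (hcen w hw2)
    (by rw [inv_inv, ← hv]; exact hcen v hv2)
  rw [inv_inv] at hke
  rw [hke]
  have h1 := hwfix (act ⟨k⁻¹, inv_mem hk⟩) ⟨_, rfl⟩
  have h2 : (e (act ⟨k⁻¹, inv_mem hk⟩ w) : G) = k⁻¹ * ι w * k⁻¹⁻¹ := by
    simp only [act, MonoidHom.comp_apply]
    change ((e (e.symm (((S : Subgroup G).normalizerMonoidHom ⟨k⁻¹, inv_mem hk⟩) (e w)))) : G) = _
    rw [MulEquiv.apply_symm_apply]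
    rfl
  rw [h1, inv_inv, he] at h2
  exact h2.symm

end Cfsg.Agent.QuatDirect
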